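import Groth.Prelude.Def_Conn
import Mathlib.LinearAlgebra.TensorProduct.Basis
import Mathlib.LinearAlgebra.Trace

/-!
# Induced connections
-/

universe v u

open TensorProduct

namespace Groth.Agent.Lib.Conn99.Basic

variable {A : Type v} {B Ω : Type u} [CommRing A] [CommRing B] [Algebra A B]
  [AddCommGroup Ω] [Module B Ω] [Module A Ω] [IsScalarTower A B Ω]

/-- Contraction. -/
noncomputable def ct {M : Type u} [AddCommGroup M] [Module B M] (θ : Ω →ₗ[B] B) : M ⊗[B] Ω →ₗ[B] M :=
  (TensorProduct.rid B M).toLinearMap ∘ₗ TensorProduct.map LinearMap.id θ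

omit [Module A Ω] [IsScalarTower A B Ω] in
@[simp] theorem ct_tmul {M : Type u} [AddCommGroup M] [Module B M] (θ : Ω →ₗ[B] B) (m : M) (w : Ω) :
    ct θ (m ⊗ₜ[B] w) = θ w • m := by
  simp [ct]

omit [Module A Ω] [IsScalarTower A B Ω] in
theorem ct_map {M N : Type u} [AddCommGroup M] [Module B M] [AddCommGroup N] [Module B N] (f : M →ₗ[B] N)
    (θ : Ω →ₗ[B] B) (x : M ⊗[B] Ω) : ct θ (TensorProduct.map f LinearMap.id x) = f (ct θ x) := by
  induction x using TensorProduct.induction_on with
  | zero => simp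
  | tmul m w => simp
  | add a b ha hb => simp [ha, hb]

omit [Module A Ω] [IsScalarTower A B Ω] in
theorem eq_of_ct [Module.Free B Ω] {M : Type u} [AddCommGroup M] [Module B M] {x y : M ⊗[B] Ω}
    (h : ∀ θ : Ω →ₗ[B] B, ct θ x = ct θ y) : x = y := by
  classical
  let b := Module.Free.chooseBasis B Ω
  refine (TensorProduct.equivFinsuppOfBasisRight b).injective (Finsupp.ext fun i => ?_)
  have key : ∀ z : M ⊗[B] Ω, TensorProduct.equivFinsuppOfBasisRight b z i = ct (b.coord i) z := by
    intro z
    induction z using TensorProduct.induction_on with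
    | zero => simp
    | tmul m w => simp [TensorProduct.equivFinsuppOfBasisRight_apply_tmul_apply]
    | add a c ha hc => simp [ha, hc]
  rw [key, key, h]

omit [Module A Ω] [IsScalarTower A B Ω] in
theorem eq_of_ev [Module.Free B Ω] {M N : Type u} [AddCommGroup M] [Module B M] [AddCommGroup N] [Module B N]
    {x y : (M →ₗ[B] N) ⊗[B] Ω}
    (h : ∀ m, TensorProduct.map (LinearMap.applyₗ m) LinearMap.id x =
      TensorProduct.map (LinearMap.applyₗ m) LinearMap.id y) : x = y :=
  eq_of_ct fun θ => LinearMap.ext fun m => by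
    have := congrArg (ct θ) (h m)
    rw [ct_map, ct_map] at this
    exact this

variable {M : Type u} [AddCommGroup M] [Module B M] [Module A M] [IsScalarTower A B M]

theorem along_eq (nabla : M →ₗ[A] M ⊗[B] Ω) (θ : Ω →ₗ[B] B) (m : M) : Conn.along nabla θ m = ct θ (nabla m) := rfl

theorem along_smul {δ : Derivation A B Ω} {nabla : M →ₗ[A] M ⊗[B] Ω} (hc : Conn.IsConn δ nabla)
    (θ : Ω →ₗ[B] B) (b : B) (m : M) :
    Conn.along nabla θ (b • m) = b • Conn.along nabla θ m + θ (δ b) • m := by
  rw [along_eq, along_eq, hc, map_add, map_smul, ct_tmul]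

theorem along_hom {nabla : M →ₗ[A] M ⊗[B] Ω} {nablaE : (M →ₗ[B] M) →ₗ[A] (M →ₗ[B] M) ⊗[B] Ω}
    (hE : Conn.IsHomConn nabla nabla nablaE) (θ : Ω →ₗ[B] B) (φ : M →ₗ[B] M) (m : M) :
    Conn.along nablaE θ φ m = Conn.along nabla θ (φ m) - φ (Conn.along nabla θ m) := by
  have := congrArg (ct θ) (hE φ m)
  rw [ct_map, map_sub, ct_map] at this
  exact this

theorem along_hom_comp {nabla : M →ₗ[A] M ⊗[B] Ω} {nablaE : (M →ₗ[B] M) →ₗ[A] (M →ₗ[B] M) ⊗[B] Ω}
    (hE : Conn.IsHomConn nabla nabla nablaE) (θ : Ω →ₗ[B] B) (ψ φ : M →ₗ[B] M) :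
    Conn.along nablaE θ (ψ ∘ₗ φ) = Conn.along nablaE θ ψ ∘ₗ φ + ψ ∘ₗ Conn.along nablaE θ φ := by
  refine LinearMap.ext fun m => ?_
  simp only [LinearMap.add_apply, LinearMap.comp_apply, along_hom hE, map_sub]
  abel

/-- The trace of the covariant derivative of an endomorphism. -/
theorem trace_along [Module.Free B M] [Module.Finite B M] {δ : Derivation A B Ω} {nabla : M →ₗ[A] M ⊗[B] Ω}
    (hc : Conn.IsConn δ nabla) (θ : Ω →ₗ[B] B) (ψ φ : M →ₗ[B] M)
    (hψ : ∀ m, ψ m = Conn.along nabla θ (φ m) - φ (Conn.along nabla θ m)) :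
    LinearMap.trace B M ψ = θ (δ (LinearMap.trace B M φ)) := by
  classical
  let b := Module.Free.chooseBasis B M
  let D : M → M := fun m => ∑ i, θ (δ (b.repr m i)) • b i
  let Γ : M →ₗ[B] M :=
    { toFun := fun m => Conn.along nabla θ m - D m
      map_add' := fun x y => by
        simp only [D, map_add, Finsupp.add_apply, add_smul, Finset.sum_add_distrib]
        abel
      map_smul' := fun c m => by
        simp only [RingHom.id_apply, D, along_smul hc, map_smul, Finsupp.smul_apply, smul_eq_mul, Derivation.leibniz,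
          map_add, add_smul, mul_smul, Finset.sum_add_distrib, ← Finset.smul_sum, smul_sub]
        rw [Finset.sum_congr rfl (fun i _ => smul_comm (b.repr m i) (θ (δ c)) (b i)), ← Finset.smul_sum, b.sum_repr]
        abel }
  let Φ : M →ₗ[B] M :=
    { toFun := fun m => D (φ m) - φ (D m)
      map_add' := fun x y => by
        simp only [D, map_add, Finsupp.add_apply, add_smul, Finset.sum_add_distrib]
        abel
      map_smul' := fun c m => by
        simp only [RingHom.id_apply, D, map_smul, Finsupp.smul_apply, smul_eq_mul, Derivation.leibniz,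
          map_add, add_smul, mul_smul, Finset.sum_add_distrib, ← Finset.smul_sum, smul_sub, map_sum]
        rw [Finset.sum_congr rfl (fun i _ => smul_comm (b.repr (φ m) i) (θ (δ c)) (b i)), ← Finset.smul_sum, b.sum_repr,
          Finset.sum_congr rfl (fun i _ => smul_comm (b.repr m i) (θ (δ c)) (φ (b i))), ← Finset.smul_sum]
        have hs : ∑ i, b.repr m i • φ (b i) = φ m := by
          conv_rhs => rw [← b.sum_repr m]
          simp only [map_sum, map_smul]
        rw [hs]
        abel }
  have hψ' : ψ = (Γ ∘ₗ φ - φ ∘ₗ Γ) + Φ := LinearMap.ext fun m => by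
    rw [hψ]
    simp only [Γ, Φ, LinearMap.add_apply, LinearMap.sub_apply, LinearMap.comp_apply, LinearMap.coe_mk, AddHom.coe_mk,
      map_sub]
    abel
  have hD : ∀ i, D (b i) = 0 := fun i => Finset.sum_eq_zero fun j _ => by
    rw [b.repr_self, Finsupp.single_apply]
    split_ifs <;> simp
  rw [hψ', map_add, map_sub, LinearMap.trace_comp_comm', sub_self, zero_add,
    LinearMap.trace_eq_matrix_trace B b, LinearMap.trace_eq_matrix_trace B b]
  simp only [Matrix.trace, Matrix.diag, map_sum]
  refine Finset.sum_congr rfl fun i _ => ?_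
  simp only [LinearMap.toMatrix_apply, Φ, LinearMap.coe_mk, AddHom.coe_mk, hD, map_zero, sub_zero, D]
  rw [map_sum, Finsupp.finsetSum_apply, Finset.sum_eq_single i]
  · simp
  · intro j _ hj
    simp [hj]
  · simp

end Groth.Agent.Lib.Conn99.Basic
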